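import Groth.Agent.DualFieldExt7.Point
import Groth.Agent.ShriekIndep7.Indep
import Groth.Agent.S1766
import Groth.Agent.S1297

/-!
# The dualizing complex does not depend on the field of constants
-/

set_option autoImplicit false
set_option linter.style.haveILetI false
set_option backward.isDefEq.respectTransparency false
set_option backward.isDefEq.respectTransparency.types false
set_option maxHeartbeats 1000000

universe u

open CategoryTheory CategoryTheory.Limits AlgebraicGeometry

attribute [local instance] HasDerivedCategory.standard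

noncomputable section

namespace Groth.Agent.DualFieldExt7

open Groth.Agent.KFlatLib Groth.Agent.PerfGen7

/-- A field over which a nonempty proper scheme lives is finite. -/
theorem isFinite_of_nonempty {k k' : Type u} [Field k] [Field k'] [Algebra k k'] {X : Scheme.{u}} [Nonempty X]
    (f : X ⟶ Spec (CommRingCat.of k)) [IsProper f] (f' : X ⟶ Spec (CommRingCat.of k'))
    (hff' : f' ≫ Spec.map (CommRingCat.ofHom (algebraMap k k')) = f) :
    IsFinite (Spec.map (CommRingCat.ofHom (algebraMap k k'))) := by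
  let φ : k →+* Γ(X, ⊤) := (f.appTop.hom.comp (Scheme.ΓSpecIso (CommRingCat.of k)).inv.hom)
  let φ' : k' →+* Γ(X, ⊤) := (f'.appTop.hom.comp (Scheme.ΓSpecIso (CommRingCat.of k')).inv.hom)
  have hcomp : φ'.comp (algebraMap k k') = φ := by
    have hn := Scheme.ΓSpecIso_inv_naturality (CommRingCat.ofHom (algebraMap k k'))
    have h : CommRingCat.ofHom (algebraMap k k') ≫ (Scheme.ΓSpecIso (CommRingCat.of k')).inv ≫ f'.appTop =
        (Scheme.ΓSpecIso (CommRingCat.of k)).inv ≫ f.appTop := by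
      rw [← Category.assoc, hn, Category.assoc, ← Scheme.Hom.comp_appTop, hff']
    exact congrArg CommRingCat.Hom.hom h
  have hfin : φ.Finite := (Groth.Agent.S1297.finite_appTop f).comp
    (RingHom.Finite.of_surjective _ (Scheme.ΓSpecIso (CommRingCat.of k)).symm.commRingCatIsoToRingEquiv.surjective)
  letI : Algebra k Γ(X, ⊤) := φ.toAlgebra
  letI : Algebra k' Γ(X, ⊤) := φ'.toAlgebra
  haveI : IsScalarTower k k' Γ(X, ⊤) := IsScalarTower.of_algebraMap_eq' hcomp.symm
  haveI : Module.Finite k Γ(X, ⊤) := hfin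
  let x₀ : X := Classical.arbitrary X
  haveI : Nonempty (⊤ : X.Opens) := ⟨⟨x₀, trivial⟩⟩
  haveI : Nontrivial Γ(X, ⊤) := inferInstance
  haveI : Module.Finite k k' :=
    Module.Finite.of_injective (IsScalarTower.toAlgHom k k' Γ(X, ⊤)).toLinearMap
      (show Function.Injective φ' from φ'.injective)
  rw [IsFinite.SpecMap_iff]
  exact RingHom.finite_algebraMap.2 inferInstance

/-- The dualizing complexes over the two fields agree. -/
theorem main (k k' : Type u) [Field k] [Field k'] [Algebra k k'] (X : Scheme.{u}) (f : X ⟶ Spec (CommRingCat.of k))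
    [IsProper f] (f' : X ⟶ Spec (CommRingCat.of k')) (hff' : f' ≫ Spec.map (CommRingCat.ofHom (algebraMap k k')) = f)
    [DCoh.HasRpush f] (hf : DCoh.RpushPreservesQCoh f)
    (a : DCoh.DQCoh (Spec (CommRingCat.of k)) ⥤ DCoh.DQCoh X) (adj : DCoh.RpushQ f hf ⊣ a)
    [DCoh.HasRpush f'] (hf' : DCoh.RpushPreservesQCoh f')
    (a' : DCoh.DQCoh (Spec (CommRingCat.of k')) ⥤ DCoh.DQCoh X) (adj' : DCoh.RpushQ f' hf' ⊣ a')
    (O : DCoh.DQCoh (Spec (CommRingCat.of k)))
    (hO : Nonempty (O.obj ≅ DCoh.inD (Spec (CommRingCat.of k)) (Coh.structureModule (Spec (CommRingCat.of k)))))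
    (O' : DCoh.DQCoh (Spec (CommRingCat.of k')))
    (hO' : Nonempty (O'.obj ≅ DCoh.inD (Spec (CommRingCat.of k')) (Coh.structureModule (Spec (CommRingCat.of k'))))) :
    Nonempty ((a.obj O).obj ≅ (a'.obj O').obj) := by
  rcases isEmpty_or_nonempty X with hX | hX
  · have hz : ∀ K : DCoh.D X, IsZero K := fun K =>
      isZero_of_supp_empty (supp_iff.2 fun y _ _ => (hX.false y).elim)
    exact ⟨(hz _).iso (hz _)⟩
  let g := Spec.map (CommRingCat.ofHom (algebraMap k k'))
  haveI : IsFinite g := isFinite_of_nonempty f f' hff'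
  haveI := hasRpush_scheme g
  have hg : DCoh.RpushPreservesQCoh g := fun K hK => KFlatLib.isQCohD_rpush g hK
  haveI : IsNoetherian (Spec (CommRingCat.of k')) := {}
  haveI : (DCoh.RpushQ g hg).IsLeftAdjoint := Groth.Agent.S1766.result _ _ g hg
  let adjg := Adjunction.ofIsLeftAdjoint (DCoh.RpushQ g hg)
  obtain ⟨e⟩ : Nonempty (DCoh.RpushQ f' hf' ⋙ DCoh.RpushQ g hg ≅ DCoh.RpushQ f hf) := by
    haveI : DCoh.HasRpush (f' ≫ g) := hff'.symm ▸ ‹DCoh.HasRpush f›
    obtain ⟨cc⟩ := nonempty_rpush_comp f' g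
    let cc' : DCoh.Rpush f' ⋙ DCoh.Rpush g ≅ DCoh.Rpush f := cc ≪≫ eqToIso (by congr 1)
    exact ⟨NatIso.ofComponents (fun K => ObjectProperty.isoMk _ (cc'.app K.obj))
      fun φ => ObjectProperty.hom_ext _ (cc'.hom.naturality φ.hom)⟩
  let u := ((adj'.comp adjg).ofNatIsoLeft e).rightAdjointUniq adj
  obtain ⟨p⟩ := nonempty_shriek_point g hg adjg O hO
  obtain ⟨eO'⟩ := hO'
  let q : (DCoh.RpushQ g hg).rightAdjoint.obj O ≅ O' := ObjectProperty.isoMk _ (p ≪≫ eO'.symm)
  exact ⟨(ObjectProperty.ι _).mapIso ((u.app O).symm ≪≫ a'.mapIso q)⟩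

end Groth.Agent.DualFieldExt7

end
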