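import Groth.Agent.ShriekDual7.Main
import Groth.Agent.PerfGen7.DualizingUnique
import Groth.Agent.PerfGen7.TorAmpFibre
import Groth.Agent.KFlatLib.Ring.ShriekBasic
import Groth.Agent.KFlatLib.Scheme.AffinePush
import Groth.Agent.KFlatLib.Scheme.RpushUnbounded
import Groth.Agent.Dual3Gor7.Dualizing

/-!
# The twisted inverse image along a finite extension of fields
-/

set_option autoImplicit false
set_option linter.style.haveILetI false
set_option backward.isDefEq.respectTransparency false
set_option backward.isDefEq.respectTransparency.types false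
set_option maxHeartbeats 1000000

universe u

open CategoryTheory CategoryTheory.Limits AlgebraicGeometry

attribute [local instance] HasDerivedCategory.standard

noncomputable section

namespace Groth.Agent.DualFieldExt7

open Groth.Agent.KFlatLib

/-- A dualizing complex of a field is a shift of the field. -/
theorem exists_shift_of_isDualizing (K : Type u) [Field K] {ω : Dual.D K} (hω : Dual.IsDualizing K ω) :
    ∃ n : ℤ, Nonempty (ω ≅ (Dual.inD K K)⟦n⟧) := by
  haveI : HasInjectiveDimensionLT (ModuleCat.of K K) 1 :=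
    injective_iff_hasInjectiveDimensionLT_one.1
      ((Module.injective_iff_injective_object K K).1 (Module.injective_of_isSemisimpleRing K K))
  have hK : Dual.IsDualizing K (Dual.inD K K) := LC.isDualizing_self_of_injDim K (n := 1)
  haveI : ConnectedSpace (PrimeSpectrum K) := by
    haveI : Subsingleton (PrimeSpectrum K) := inferInstance
    infer_instance
  obtain ⟨P, hP, n, h⟩ := PerfGen7.exists_twist_shift_of_isDualizing hK hω
  haveI := H9Misc.DRingTor.hasLTensor P
  obtain ⟨e⟩ := @h inferInstance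
  haveI := hasLTen K
  obtain ⟨t⟩ := PerfGen7.nonempty_LTen_inD P (Dual.inD K K)
  haveI := hP
  haveI : Module.Free K P := inferInstance
  obtain ⟨l⟩ : Nonempty ((P : Type u) ≃ₗ[K] K) := Module.Invertible.free_iff_linearEquiv.1 inferInstance
  let i : Dual.inD K P ≅ (DTen.unit K)⟦(0 : ℤ)⟧ :=
    (DerivedCategory.singleFunctor (ModuleCat.{u} K) 0).mapIso (l.toModuleIso (X₂ := K)) ≪≫
      (DerivedCategory.singleFunctorIsoCompQ (ModuleCat.{u} K) 0).app (ModuleCat.of K K) ≪≫
      ((shiftFunctorZero (Dual.D K) ℤ).app _).symm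
  obtain ⟨r⟩ := nonempty_tensorRight_shift (B := K) 0 i
  exact ⟨n, ⟨e ≪≫ (shiftFunctor _ n).mapIso (t ≪≫ r.app _ ≪≫ (shiftFunctorZero (Dual.D K) ℤ).app _)⟩⟩

variable {k k' : Type u} [Field k] [Field k'] (g : Spec (CommRingCat.of k') ⟶ Spec (CommRingCat.of k)) [IsFinite g]
  [DCoh.HasRpush g] (hg : DCoh.RpushPreservesQCoh g)
  {a : DCoh.DQCoh (Spec (CommRingCat.of k)) ⥤ DCoh.DQCoh (Spec (CommRingCat.of k'))} (adj : DCoh.RpushQ g hg ⊣ a)

include adj in
/-- `g^! O = O'` for a finite extension of fields. -/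
theorem nonempty_shriek_point (O : DCoh.DQCoh (Spec (CommRingCat.of k)))
    (hO : Nonempty (O.obj ≅ DCoh.inD (Spec (CommRingCat.of k)) (Coh.structureModule (Spec (CommRingCat.of k))))) :
    Nonempty ((a.obj O).obj ≅
      DCoh.inD (Spec (CommRingCat.of k')) (Coh.structureModule (Spec (CommRingCat.of k')))) := by
  obtain ⟨eO⟩ := hO
  let S := CommRingCat.of k
  let S' := CommRingCat.of k'
  let one' : (Spec S').Modules := (tilde.functor S').obj (ModuleCat.of k' k')
  let X' := DCoh.inD (Spec S') (Coh.structureModule (Spec S'))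
  have hdual : Dual2.IsDualizingSch (Spec S) O.obj := by
    haveI : HasInjectiveDimensionLT (ModuleCat.of k k) 1 :=
      injective_iff_hasInjectiveDimensionLT_one.1
        ((Module.injective_iff_injective_object k k).1 (Module.injective_of_isSemisimpleRing k k))
    refine DualCover7.isDualizingSch_of_cover (X := Spec S) O.obj PUnit.{u+1} (fun _ => k) (fun _ => 𝟙 (Spec S))
      (fun x => ⟨⟨⟩, ⟨x, rfl⟩⟩) fun _ => ⟨Dual.inD k k, LC.isDualizing_self_of_injDim k (n := 1), ⟨?_⟩⟩
    exact (rho (𝟙 (Spec S))).mapIso eO ≪≫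
      ((Scheme.Modules.restrictFunctor (𝟙 (Spec S))).mapDerivedCategorySingleFunctor 0).app _ ≪≫
      (DerivedCategory.singleFunctor _ 0).mapIso (restrictStructureIso (𝟙 (Spec S)) ≪≫ (tildeSelf (R := S)).symm) ≪≫
      (((tilde.functor S).mapDerivedCategorySingleFunctor 0).app (ModuleCat.of k k)).symm
  obtain ⟨ω, hω, ⟨e⟩⟩ :=
    ShriekDual7.isDualizingSch_rightAdjoint g hg adj O hdual k' (𝟙 (Spec (CommRingCat.of k')))
  obtain ⟨n, ⟨eω⟩⟩ := exists_shift_of_isDualizing k' hω
  let eid : rho (𝟙 (Spec S')) ≅ 𝟭 _ := (RHomO7.nonempty_iso_of_Q (rhoQ (𝟙 (Spec S')) ≪≫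
    Functor.isoWhiskerRight (NatIso.mapHomologicalComplex Scheme.Modules.restrictFunctorId (ComplexShape.up ℤ) ≪≫
      Functor.mapHomologicalComplexIdIso _ (ComplexShape.up ℤ)) DerivedCategory.Q ≪≫
    Functor.leftUnitor _ ≪≫ (Functor.rightUnitor _).symm)).some
  let w : (a.obj O).obj ≅ X'⟦n⟧ :=
    ((eid.app _).symm ≪≫ e) ≪≫ (DCoh.tildeD S').mapIso eω ≪≫ ((DCoh.tildeD S').commShiftIso n).app _ ≪≫
      (shiftFunctor _ n).mapIso (((tilde.functor S').mapDerivedCategorySingleFunctor 0).app (ModuleCat.of k' k') ≪≫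
        (DerivedCategory.singleFunctor _ 0).mapIso (tildeSelf (R := S')))
  suffices hn : n = 0 by
    subst hn
    exact ⟨w ≪≫ (shiftFunctorZero _ ℤ).app _⟩
  by_contra hn
  have hqX : DCoh.IsQCohD X' := ShriekPn7.isQCohD_inD QCoh.isQCoh_structureModule
  have hzero : ∀ φ : X' ⟶ (a.obj O).obj, φ = 0 := fun φ => by
    let i₀ : (DerivedCategory.singleFunctor (Spec S').Modules 0).obj one' ≅ X' :=
      (DerivedCategory.singleFunctor _ 0).mapIso (tildeSelf (R := S'))
    rw [← cancel_epi i₀.hom, ← cancel_mono w.hom, comp_zero, zero_comp]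
    refine (bijective_psiC_tildeR (isQCohD_shift hqX n) 0).1 (IsZero.eq_of_tgt ?_ _ _)
    refine IsZero.of_iso ?_ (((DerivedCategory.homologyFunctor _ 0).shiftIso n 0 n (add_zero n)).app X')
    rcases lt_or_gt_of_ne hn with h | h
    · exact DerivedCategory.isZero_of_isGE _ 0 n h
    · exact DerivedCategory.isZero_of_isLE _ 0 n h
  let P : DCoh.DQCoh (Spec S') := ⟨X', hqX⟩
  let M := (Scheme.Modules.pushforward g).obj (Coh.structureModule (Spec S'))
  have hMq : Coh.IsQCoh M := QCoh.isQCoh_pushforward g QCoh.isQCoh_structureModule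
  obtain ⟨eP⟩ : Nonempty ((DCoh.Rpush g).obj X' ≅ DCoh.inD (Spec S) M) := by
    let C := (HomologicalComplex.single (Spec S').Modules (ComplexShape.up ℤ) 0).obj (Coh.structureModule (Spec S'))
    haveI := (isIso_rpushUnit_iff g C).2 (isIso_unit_of_isAffineHom g C fun m => by
      by_cases hm : m = 0
      · subst hm
        exact isQCoh_of_iso (HomologicalComplex.singleObjXSelf (ComplexShape.up ℤ) 0 _).symm
          QCoh.isQCoh_structureModule
      · exact isQCoh_of_isZero (HomologicalComplex.isZero_single_obj_X (ComplexShape.up ℤ) 0 _ m hm))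
    exact ⟨(DCoh.Rpush g).mapIso ((DerivedCategory.singleFunctorIsoCompQ _ 0).app _) ≪≫
      (asIso ((rpushUnit g).app C)).symm ≪≫
      DerivedCategory.Q.mapIso ((HomologicalComplex.singleMapHomologicalComplex (Scheme.Modules.pushforward g) _ 0).app _) ≪≫
      ((DerivedCategory.singleFunctorIsoCompQ _ 0).app M).symm⟩
  obtain ⟨(N : ModuleCat.{u} k), ⟨eN⟩⟩ := QCoh.isQCoh_spec_iff.1 hMq
  have hN : ¬ Subsingleton N := fun h => by
    have hz : IsZero M := ((tilde.functor S).map_isZero (ModuleCat.isZero_of_subsingleton N)).of_iso eN.symm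
    haveI : Subsingleton Γ(Spec S', g ⁻¹ᵁ ⊤) := AddCommGrpCat.subsingleton_of_isZero
      ((DCoh.gammaAb (Spec S)).map_isZero hz)
    haveI : Nonempty ↥(g ⁻¹ᵁ ⊤) := ⟨⟨(default : PrimeSpectrum k'), trivial⟩⟩
    exact false_of_nontrivial_of_subsingleton Γ(Spec S', g ⁻¹ᵁ ⊤)
  haveI : Module.Free k N := Module.Free.of_divisionRing k N
  obtain ⟨x, hx⟩ : ∃ x : N, x ≠ 0 := by
    by_contra h
    exact hN ⟨fun a b => (not_not.1 fun ha => h ⟨a, ha⟩).trans (not_not.1 fun hb => h ⟨b, hb⟩).symm⟩
  obtain ⟨l, hl⟩ := (Module.Projective.exists_dual_ne_zero k hx)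
  let φ₀ : M ⟶ Coh.structureModule (Spec S) :=
    eN.inv ≫ (tilde.functor S).map (ModuleCat.ofHom (X := N) (Y := k) l) ≫ (tildeSelf (R := S)).hom
  have hφ₀ : φ₀ ≠ 0 := fun h => by
    simp only [φ₀, Preadditive.IsIso.comp_left_eq_zero, Preadditive.IsIso.comp_right_eq_zero] at h
    haveI : (tilde.functor S).Faithful := inferInstance
    haveI : (tilde.functor S).Additive := tilde_additive S
    have h' := (tilde.functor S).map_injective (h.trans (Functor.map_zero _ _ _).symm)
    exact hl (congr($(h').hom x))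
  let ψ : (DCoh.RpushQ g hg).obj P ⟶ O :=
    ObjectProperty.homMk (eP.hom ≫ (DerivedCategory.singleFunctor _ 0).map φ₀ ≫ eO.inv)
  have hψ : ψ = 0 := by
    apply (adj.homEquiv P O).injective
    refine (ObjectProperty.hom_ext _ ?_).trans (ObjectProperty.hom_ext _ ?_).symm (b := (0 : P ⟶ a.obj O))
    · exact hzero _
    · exact hzero _
  apply hφ₀
  have h := congr($(hψ).hom)
  change eP.hom ≫ (DerivedCategory.singleFunctor _ 0).map φ₀ ≫ eO.inv = 0 at h
  simp only [Preadditive.IsIso.comp_left_eq_zero, Preadditive.IsIso.comp_right_eq_zero] at h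
  exact (DerivedCategory.singleFunctor _ 0).map_injective (h.trans (Functor.map_zero _ _ _).symm)

end Groth.Agent.DualFieldExt7

end
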